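import Cfsg.Agent.H77.Homocyclic.Sylow

/-!
Subgroups of exceptional Chevalley groups of order prime to the characteristic and the Weyl group
inside split tori over extension fields, and the Weyl matrices inducing their automorphisms.
-/
set_option autoImplicit false

namespace Cfsg.Agent.H77.Automizer

open Cfsg.Lie Matrix
open Cfsg.Agent.H37 (KerCert)
open Cfsg.Agent.Chevalley (torus cor Valid)
open Cfsg.Agent.H77.Homocyclic

universe u

/-- A prime that is good for the order formula with the given degrees. -/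
structure GoodPrime (D : ChevalleyDatum) (degs : List ℕ) (d₀ q s : ℕ) : Prop where
  prime : s.Prime
  two : s ≠ 2
  not_dvd_q : ¬ s ∣ q
  not_dvd_d : ¬ s ∣ d₀
  not_dvd_deg : ∀ e ∈ degs, ¬ s ∣ e

/-- The extension field: `G(F)` embeds in `G(K)` and `H(K)` contains a Sylow subgroup. -/
theorem exists_split {D : ChevalleyDatum} (C : Chevalley.Cert D) (degs : List ℕ) {d₀ : ℕ}
    (hlen : degs.length = D.rank)
    (hord : ∀ (L : Type) [Field L] [Fintype L], ∃ c, (∀ s : ℕ, s.Prime → ¬ s ∣ d₀ → ¬ s ∣ c) ∧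
      c * Nat.card ↥(D.group L) =
        Fintype.card L ^ (D.nroots / 2) * (degs.map fun e => Fintype.card L ^ e - 1).prod ∧
      c * Nat.card ↥(D.diagonalSubgroup L) = (Fintype.card L - 1) ^ D.rank)
    {F : Type u} [Field F] [Fintype F] (S : Finset ℕ)
    (hS : ∀ s ∈ S, GoodPrime D degs d₀ (Fintype.card F) s) :
    ∃ (K : Type) (_ : Field K) (_ : Fintype K) (φ : ↥(D.group F) →* ↥(D.group K)),
      Function.Injective φ ∧ ∀ s ∈ S, s ∣ Fintype.card K - 1 ∧
        padicValNat s (Nat.card ↥(D.diagonalSubgroup K)) = padicValNat s (Nat.card ↥(D.group K)) := by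
  classical
  obtain ⟨q, hq⟩ : ∃ q, Fintype.card F = q := ⟨_, rfl⟩
  simp only [hq] at hS
  have hq2 : 2 ≤ q := hq ▸ Fintype.one_lt_card
  obtain ⟨p, hp⟩ := CharP.exists F
  have hpp : p.Prime :=
    (CharP.char_is_prime_or_zero F p).resolve_right (CharP.char_ne_zero_of_finite F p)
  have := Fact.mk hpp
  set d := ∏ s ∈ S, (s - 1) with hd
  have hd0 : d ≠ 0 := Finset.prod_ne_zero_iff.2 fun s hs => by
    have := (hS s hs).prime.two_le; omega
  have : NeZero d := ⟨hd0⟩
  let K := FiniteField.Extension F p d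
  letI : Fintype K := Fintype.ofFinite K
  have hK : Fintype.card K = q ^ d := by
    rw [← Nat.card_eq_fintype_card, FiniteField.natCard_extension, Nat.card_eq_fintype_card, hq]
  let φ : ↥(D.group F) →* ↥(D.group K) :=
    ((Matrix.GeneralLinearGroup.map (algebraMap F K)).comp (D.group F).subtype).codRestrict _
      fun x => C.map_mem_group (algebraMap F K) x.2
  refine ⟨K, inferInstance, inferInstance, φ, fun x y h => ?_, fun s hs => ?_⟩
  · refine Subtype.ext (Units.ext (Matrix.ext fun i j => (algebraMap F K).injective ?_))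
    exact congrFun (congrFun (congrArg (fun z : ↥(D.group K) =>
      ((z : GL D.Idx K) : Matrix D.Idx D.Idx K)) h) i) j
  have hg := hS s hs
  haveI : Fact s.Prime := ⟨hg.prime⟩
  have hQ2 : 2 ≤ q ^ d := le_trans hq2 (Nat.le_self_pow hd0 q)
  have hQ : ¬ s ∣ q ^ d := fun h => hg.not_dvd_q (hg.prime.dvd_of_dvd_pow h)
  have hpow : ((q : ℕ) : ZMod s) ^ d = 1 := by
    obtain ⟨t, ht⟩ : (s - 1) ∣ d := Finset.dvd_prod_of_mem _ hs
    rw [ht, pow_mul, ZMod.pow_card_sub_one_eq_one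
      (fun h => hg.not_dvd_q ((ZMod.natCast_eq_zero_iff _ _).1 h)), one_pow]
  have hterm : orderOf ((q ^ d : ℕ) : ZMod s) = 1 := by
    rw [orderOf_eq_one_iff, Nat.cast_pow, hpow]
  refine ⟨?_, ?_⟩
  · rw [hK, ← ZMod.natCast_eq_zero_iff, Nat.cast_sub (by omega), Nat.cast_pow, hpow, Nat.cast_one,
      sub_self]
  obtain ⟨c, hc, hcK, hcH⟩ := hord K
  rw [hK] at hcK hcH
  have hrc := hc s hg.prime hg.not_dvd_d
  have hc0 : c ≠ 0 := fun h => hrc (h ▸ dvd_zero s)
  obtain ⟨hp0, hpv⟩ := padicValNat_prod hQ2 hQ hg.two degs hg.not_dvd_deg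
  rw [hterm] at hpv
  simp only [one_dvd, decide_true, List.filter_true, pow_one, hlen] at hpv
  have h1 := congrArg (padicValNat s) hcK
  rw [padicValNat.mul hc0 Nat.card_pos.ne', padicValNat.eq_zero_of_not_dvd hrc, zero_add,
    padicValNat.mul (pow_ne_zero _ (by omega)) hp0,
    padicValNat.eq_zero_of_not_dvd (n := (q ^ d) ^ (D.nroots / 2))
      (fun h => hQ (hg.prime.dvd_of_dvd_pow h)), zero_add, hpv] at h1
  have h2 := congrArg (padicValNat s) hcH
  rw [padicValNat.mul hc0 Nat.card_pos.ne', padicValNat.eq_zero_of_not_dvd hrc, zero_add,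
    padicValNat.pow] at h2
  rw [h1, h2]

variable {D : ChevalleyDatum} {K : Type*} [Field K] [Fintype K] (Q : H37.Chev.Data D K)

include Q in
theorem diag_commute {a b : ↥(D.group K)} (ha : (a : GL D.Idx K) ∈ D.diagonalSubgroup K)
    (hb : (b : GL D.Idx K) ∈ D.diagonalSubgroup K) : a * b = b * a :=
  Subtype.ext (Q.diag_comm ha hb)

include Q in
/-- A subgroup of prime-power order commuting with a set already in `H(K)` moves into `H(K)` by an
element fixing that set. -/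
theorem exists_conj_diag {s : ℕ} [hs : Fact s.Prime]
    (hv : padicValNat s (Nat.card ↥(D.diagonalSubgroup K)) = padicValNat s (Nat.card ↥(D.group K)))
    (T : Set ↥(D.group K)) (hT : ∀ t ∈ T, (t : GL D.Idx K) ∈ D.diagonalSubgroup K)
    {P : Subgroup ↥(D.group K)} (hP : IsPGroup s P) (hPT : ∀ t ∈ T, ∀ a ∈ P, a * t = t * a) :
    ∃ g : ↥(D.group K), (∀ t ∈ T, g * t * g⁻¹ = t) ∧
      ∀ a ∈ P, ((g * a * g⁻¹ : ↥(D.group K)) : GL D.Idx K) ∈ D.diagonalSubgroup K := by
  set C := Subgroup.centralizer T with hC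
  set H' := (D.diagonalSubgroup K).subgroupOf (D.group K) with hH'
  have hH'C : H' ≤ C := fun a ha => Subgroup.mem_centralizer_iff.2 fun t ht =>
    diag_commute Q (hT t ht) ha
  have hPC : P ≤ C := fun a ha => Subgroup.mem_centralizer_iff.2 fun t ht => (hPT t ht a ha).symm
  have hcard : Nat.card H' = Nat.card ↥(D.diagonalSubgroup K) :=
    Nat.card_congr (Subgroup.subgroupOfEquivOfLe (H37.diagonal_le_group Q.ord)).toEquiv
  obtain ⟨S₁⟩ : Nonempty (Sylow s H') := inferInstance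
  have hS₁ : Nat.card S₁ = s ^ padicValNat s (Nat.card C) := by
    rw [S₁.card_eq_multiplicity, Nat.factorization_def _ hs.out, hcard]
    congr 1
    have h1 : Nat.card H' ∣ Nat.card C := Subgroup.card_dvd_of_le hH'C
    have h2 : Nat.card C ∣ Nat.card ↥(D.group K) := Subgroup.card_subgroup_dvd_card C
    refine le_antisymm ?_ ?_
    · rw [← hcard]; exact (padicValNat_dvd_iff_le Nat.card_pos.ne').1 (pow_padicValNat_dvd.trans h1)
    · rw [hv]; exact (padicValNat_dvd_iff_le Nat.card_pos.ne').1 (pow_padicValNat_dvd.trans h2)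
  let S₀ : Sylow s C := Sylow.ofCard ((S₁ : Subgroup H').map (Subgroup.inclusion hH'C)) (by
    rw [Nat.factorization_def _ hs.out, ← hS₁]
    exact Nat.card_congr ((S₁ : Subgroup H').equivMapOfInjective _
      (Subgroup.inclusion_injective hH'C)).symm.toEquiv)
  obtain ⟨S₂, hS₂⟩ := (hP.comap_of_injective C.subtype Subtype.val_injective).exists_le_sylow
  obtain ⟨g, hg⟩ := MulAction.exists_smul_eq C S₂ S₀
  refine ⟨g, fun t ht => ?_, fun a ha => ?_⟩
  · rw [← Subgroup.mem_centralizer_iff.1 g.2 t ht, mul_inv_cancel_right]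
  have h1 : MulAut.conj g (⟨a, hPC ha⟩ : C) ∈ ((g • S₂ : Sylow s C) : Subgroup C) :=
    Subgroup.smul_mem_pointwise_smul _ (MulAut.conj g) _ (hS₂ (Subgroup.mem_comap.2 ha))
  rw [hg] at h1
  obtain ⟨y, -, hy⟩ := h1
  have hy' := congrArg Subtype.val hy
  show ((g : ↥(D.group K)) * a * (g : ↥(D.group K))⁻¹ : ↥(D.group K)).1 ∈ _
  have hy2 : (y : ↥(D.group K)) = (g : ↥(D.group K)) * a * (g : ↥(D.group K))⁻¹ := hy'
  rw [← hy2]
  exact y.2

include Q in
/-- An element normalising a set that lies in `H(K)` acts on it by a Weyl matrix. -/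
theorem exists_word (g Y : ↥(D.group K)) :
    ∃ L, Valid D L ∧ ∀ t t' : ↥(D.group K),
      ((g * t * g⁻¹ : ↥(D.group K)) : GL D.Idx K) ∈ D.diagonalSubgroup K →
      ((g * t' * g⁻¹ : ↥(D.group K)) : GL D.Idx K) ∈ D.diagonalSubgroup K →
      Y * t * Y⁻¹ = t' →
      ∀ c, torus D K c = ((g * t * g⁻¹ : ↥(D.group K)) : GL D.Idx K) →
        torus D K (act (wMat D L) c) = ((g * t' * g⁻¹ : ↥(D.group K)) : GL D.Idx K) := by
  obtain ⟨n, hn, hfus⟩ := fusion_all Q (g * Y * g⁻¹ : ↥(D.group K)).2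
  obtain ⟨L, hL, hact⟩ := monomial_act Q.K K hn
  refine ⟨L, hL, fun t t' ht ht' hY c hc => ?_⟩
  have h1 := hfus _ ht _ ht' (by
    have : g * Y * g⁻¹ * (g * t * g⁻¹) * (g * Y * g⁻¹)⁻¹ = g * t' * g⁻¹ := by rw [← hY]; group
    exact congrArg Subtype.val this)
  rw [← hc, hact c] at h1
  exact h1

include Q in
/-- The power of an element normalising a subset of a torus that kills its action. -/
theorem pow_card_centralizes (g Y : ↥(D.group K)) (T : Set ↥(D.group K))
    (hT : ∀ t ∈ T, ((g * t * g⁻¹ : ↥(D.group K)) : GL D.Idx K) ∈ D.diagonalSubgroup K)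
    (hY : ∀ t ∈ T, Y * t * Y⁻¹ ∈ T) {t : ↥(D.group K)} (ht : t ∈ T) :
    Y ^ Nat.card Q.X.M.Group * t * (Y ^ Nat.card Q.X.M.Group)⁻¹ = t := by
  obtain ⟨L, hL, hact⟩ := exists_word Q g Y
  have key : ∀ (i : ℕ) (c : Fin D.rank → Kˣ),
      torus D K c = ((g * t * g⁻¹ : ↥(D.group K)) : GL D.Idx K) →
      Y ^ i * t * (Y ^ i)⁻¹ ∈ T ∧
        torus D K (act (wMat D L ^ i) c) =
          ((g * (Y ^ i * t * (Y ^ i)⁻¹) * g⁻¹ : ↥(D.group K)) : GL D.Idx K) := by
    intro i c hc
    induction i with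
    | zero => simpa [act_one] using And.intro ht hc
    | succ i ih =>
      obtain ⟨hmem, heq⟩ := ih
      have e : Y ^ (i + 1) * t * (Y ^ (i + 1))⁻¹ = Y * (Y ^ i * t * (Y ^ i)⁻¹) * Y⁻¹ := by
        rw [pow_succ']; group
      refine ⟨e ▸ hY _ hmem, ?_⟩
      rw [pow_succ', act_mul, e]
      exact hact _ _ (hT _ hmem) (hT _ (hY _ hmem)) rfl _ heq
  have hd := hT t ht
  rw [Q.K.diagonalSubgroup_eq] at hd
  obtain ⟨c, hc⟩ := hd
  obtain ⟨-, h⟩ := key (Nat.card Q.X.M.Group) c hc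
  rw [wMat_pow Q hL, act_one, hc] at h
  exact (mul_left_cancel (mul_right_cancel (Subtype.ext h.symm)))

include Q in
/-- An element of order `s` sent to its `k`-th power gives an eigenvector modulo `s`. -/
theorem exists_eigen {d₀ e₀ : ℕ} (Cker : KerCert (cartanMat D) d₀ e₀) {s : ℕ} [hs : Fact s.Prime]
    (hsd : ¬ s ∣ d₀) (hsK : s ∣ Fintype.card K - 1) (g : ↥(D.group K)) {t : ↥(D.group K)}
    (ht : ((g * t * g⁻¹ : ↥(D.group K)) : GL D.Idx K) ∈ D.diagonalSubgroup K) (hto : orderOf t = s)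
    (L : List ℕ) {k : ℕ}
    (hL : ∀ c, torus D K c = ((g * t * g⁻¹ : ↥(D.group K)) : GL D.Idx K) →
      torus D K (act (wMat D L) c) = ((g * t ^ k * g⁻¹ : ↥(D.group K)) : GL D.Idx K)) :
    ∃ v : Fin D.rank → ZMod s, v ≠ 0 ∧
      (wMat D L).map (Int.castRingHom (ZMod s)) *ᵥ v = (k : ZMod s) • v := by
  classical
  set C := Q.K with hC
  have hKu : Nat.card Kˣ = Fintype.card K - 1 := by rw [Nat.card_units, Nat.card_eq_fintype_card]
  obtain ⟨j, hj⟩ := Arith.exists_zmod_hom (C := Kˣ) (m := s) (hKu.symm ▸ hsK)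
  set x : GL D.Idx K := ((g * t * g⁻¹ : ↥(D.group K)) : GL D.Idx K) with hx
  have hxs : x ^ s = 1 := by
    rw [hx, ← SubmonoidClass.coe_pow, conj_pow, ← hto, pow_orderOf_eq_one]; simp
  have hx1 : x ≠ 1 := fun h => by
    have h2 : g * t * g⁻¹ = 1 := Subtype.ext h
    rw [conj_eq_one_iff] at h2
    rw [h2, orderOf_one] at hto
    exact hs.out.ne_one hto.symm
  rw [C.diagonalSubgroup_eq] at ht
  obtain ⟨c, hc⟩ := ht
  change torus D K c = x at hc
  set m := d₀ * ((d₀ : ZMod s)⁻¹).val with hm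
  have hmod : m % s = 1 := by
    have h1 : ((m : ℕ) : ZMod s) = 1 := by
      rw [hm, Nat.cast_mul, ZMod.natCast_zmod_val,
        mul_inv_cancel₀ (fun h => hsd ((ZMod.natCast_eq_zero_iff _ _).1 h))]
    have h2 := congrArg ZMod.val h1
    rwa [ZMod.val_natCast, ZMod.val_one] at h2
  set c' := c ^ m with hc'
  have h1 : torus D K c' = x := by
    rw [hc', map_pow, hc, pow_eq_pow_mod _ hxs, hmod, pow_one]
  have h2 : ∀ i, c' i ^ s = 1 := by
    intro i
    have := kerCert_kill Cker _ (torus_eq_one C K (c := c ^ s) (by rw [map_pow, hc, hxs])) i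
    rw [Pi.pow_apply] at this
    rw [hc', Pi.pow_apply, ← pow_mul, hm, show d₀ * ((d₀ : ZMod s)⁻¹).val * s =
      s * d₀ * ((d₀ : ZMod s)⁻¹).val by ring, pow_mul, pow_mul, this, one_pow]
  have hz : IsPrimitiveRoot ((j (Multiplicative.ofAdd 1) : Kˣ) : K) s := by
    rw [IsPrimitiveRoot.iff_orderOf, orderOf_units, orderOf_injective j hj,
      orderOf_ofAdd_eq_addOrderOf, ZMod.addOrderOf_one]
  choose w hw using fun i => hz.eq_pow_of_pow_eq_one (ξ := (c' i : K)) (by
    rw [← Units.val_pow_eq_pow_val, h2 i, Units.val_one])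
  set v : Fin D.rank → ZMod s := fun i => (w i : ZMod s) with hv
  have hcv : c' = fun i => j (Multiplicative.ofAdd (v i)) := by
    funext i
    refine Units.ext ?_
    rw [← (hw i).2, ← Units.val_pow_eq_pow_val, ← map_pow, ← ofAdd_nsmul, nsmul_one]
  refine ⟨v, fun h => hx1 ?_, ?_⟩
  · rw [← h1, hcv, h]
    simp only [Pi.zero_apply, ofAdd_zero, map_one]
    exact map_one _
  have h3 := hL c' h1
  have h4 : ((g * t ^ k * g⁻¹ : ↥(D.group K)) : GL D.Idx K) = torus D K (c' ^ k) := by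
    rw [map_pow, h1, hx, ← SubmonoidClass.coe_pow, conj_pow]
  rw [h4] at h3
  have h5 : torus D K (act (wMat D L) c' * (c' ^ k)⁻¹) = 1 := by
    rw [map_mul, h3, map_inv, mul_inv_cancel]
  funext i
  have h6 := kerCert_kill Cker _ (torus_eq_one C K h5) i
  set u : ZMod s := ((wMat D L).map (Int.castRingHom (ZMod s)) *ᵥ v) i - (k : ZMod s) * v i with hu
  have h7 : (act (wMat D L) c' * (c' ^ k)⁻¹) i = j (Multiplicative.ofAdd u) := by
    simp only [Pi.mul_apply, Pi.inv_apply, Pi.pow_apply, act, hcv, ← map_zpow, ← map_prod,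
      ← map_pow, ← map_inv, ← map_mul, ← ofAdd_zsmul, ← ofAdd_sum, ← ofAdd_nsmul, ← ofAdd_neg,
      ← ofAdd_add]
    congr 2
    simp [hu, Matrix.mulVec, dotProduct, zsmul_eq_mul, nsmul_eq_mul, sub_eq_add_neg]
  rw [h7, ← map_pow, ← map_one j] at h6
  have h8 := hj h6
  rw [← ofAdd_nsmul, ofAdd_eq_one, nsmul_eq_mul, mul_eq_zero] at h8
  rcases h8 with h8 | h8
  · exact absurd ((ZMod.natCast_eq_zero_iff _ _).1 h8) hsd
  · rw [hu, sub_eq_zero] at h8
    exact h8

end Cfsg.Agent.H77.Automizer
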