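import Cfsg.Agent.H77.Automizer.F4

/-!
Sections of the groups of type F4: elements of order 11 or 35 with large automizers do not occur.
-/
set_option autoImplicit false

namespace Cfsg.Agent.H77.Automizer

open Cfsg.Lie Matrix
open Cfsg.Agent.Chevalley (torus)
open Cfsg.Agent.H77.Homocyclic

theorem cartanMat_F4 : cartanMat chevF4 = H37.cartanF4 :=
  Matrix.ext fun i j => of_decide_eq_true ((show ∀ i j : Fin 4,
    decide (cartanMat chevF4 i j = H37.cartanF4 i j) = true by decide +kernel) i j)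

theorem hord_F4 (L : Type) [Field L] [Fintype L] :
    ∃ c, (∀ s : ℕ, s.Prime → ¬ s ∣ 1 → ¬ s ∣ c) ∧
      c * Nat.card ↥(chevF4.group L) = Fintype.card L ^ (chevF4.nroots / 2) *
        (([2, 6, 8, 12] : List ℕ).map fun e => Fintype.card L ^ e - 1).prod ∧
      c * Nat.card ↥(chevF4.diagonalSubgroup L) = (Fintype.card L - 1) ^ chevF4.rank := by
  refine ⟨1, fun s _ h => h, ?_, ?_⟩
  · rw [(H37.Chev.dataF4 L).card_group H37.Weyl.degsF4 rfl (H37.Chev.diag_F4 L),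
      Nat.card_eq_fintype_card (α := L)]
  · rw [H37.Chev.diag_F4 L, Nat.card_eq_fintype_card (α := L)]
    rfl

theorem goodPrime_F4 {q s : ℕ} (hs : s.Prime) (h5 : 5 ≤ s) (hq : ¬ s ∣ q) :
    GoodPrime chevF4 [2, 6, 8, 12] 1 q s where
  prime := hs
  two := by omega
  not_dvd_q := hq
  not_dvd_d := fun h => hs.ne_one (Nat.dvd_one.1 h)
  not_dvd_deg := fun e he h => by
    have h24 : s ∣ 2 ^ 3 * 3 := by
      refine h.trans ?_
      simp only [List.mem_cons, List.not_mem_nil, or_false] at he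
      rcases he with rfl | rfl | rfl | rfl <;> norm_num
    rcases hs.dvd_mul.1 h24 with h' | h'
    · have := Nat.le_of_dvd (by norm_num) (hs.dvd_of_dvd_pow h'); omega
    · have := Nat.le_of_dvd (by norm_num) h'; omega

variable {H A : Type*} [Group H] [Finite H] [Group A]
variable {K : Type} [Field K] [Fintype K] (ψ : H →* ↥(chevF4.group K))

theorem centralizes_aux {s : ℕ} [Fact s.Prime] (hψ : Function.Injective ψ) (g : ↥(chevF4.group K))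
    {P : Subgroup H}
    (hg : ∀ a ∈ P, ((g * ψ a * g⁻¹ : ↥(chevF4.group K)) : GL chevF4.Idx K)
      ∈ chevF4.diagonalSubgroup K)
    {Y : H} (hY : Y ∈ Subgroup.normalizer (P : Set H)) {a : H} (ha : a ∈ P) :
    Y ^ 1152 * a * (Y ^ 1152)⁻¹ = a := by
  have hc : Nat.card (H37.Chev.dataF4 K).X.M.Group = 1152 := H37.Weyl.cardF4
  have h := pow_card_centralizes (H37.Chev.dataF4 K) g (ψ Y) (ψ '' P)
    (by rintro _ ⟨b, hb, rfl⟩; exact hg b hb)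
    (by
      rintro _ ⟨b, hb, rfl⟩
      exact ⟨Y * b * Y⁻¹, (Subgroup.mem_normalizer_iff.1 hY b).1 hb, by simp⟩)
    (t := ψ a) ⟨a, ha, rfl⟩
  rw [hc] at h
  exact hψ (by simpa using h)

theorem exists_conj_image {s : ℕ} [Fact s.Prime]
    (hv : padicValNat s (Nat.card ↥(chevF4.diagonalSubgroup K))
      = padicValNat s (Nat.card ↥(chevF4.group K)))
    {P : Subgroup H} (hP : IsPGroup s P) :
    ∃ g : ↥(chevF4.group K), ∀ a ∈ P, ((g * ψ a * g⁻¹ : ↥(chevF4.group K)) : GL chevF4.Idx K)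
      ∈ chevF4.diagonalSubgroup K := by
  obtain ⟨g, -, hg⟩ := exists_conj_diag (H37.Chev.dataF4 K) hv ∅ (fun t ht => ht.elim) (hP.map ψ)
    (fun t ht => ht.elim)
  exact ⟨g, fun a ha => hg _ ⟨a, ha, rfl⟩⟩

theorem abelian_aux (hψ : Function.Injective ψ) (g : ↥(chevF4.group K)) {P : Subgroup H}
    (hg : ∀ a ∈ P, ((g * ψ a * g⁻¹ : ↥(chevF4.group K)) : GL chevF4.Idx K)
      ∈ chevF4.diagonalSubgroup K) :
    ∀ a ∈ P, ∀ b ∈ P, a * b = b * a := by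
  intro a ha b hb
  have h := diag_commute (H37.Chev.dataF4 K) (hg a ha) (hg b hb)
  refine hψ ?_
  rw [map_mul, map_mul]
  have h2 : g * (ψ a * ψ b) * g⁻¹ = g * (ψ b * ψ a) * g⁻¹ := by
    calc g * (ψ a * ψ b) * g⁻¹ = (g * ψ a * g⁻¹) * (g * ψ b * g⁻¹) := by group
      _ = (g * ψ b * g⁻¹) * (g * ψ a * g⁻¹) := h
      _ = _ := by group
  exact mul_left_cancel (mul_right_cancel h2)

theorem eigen_aux {s : ℕ} [Fact s.Prime] (hs1 : s ≠ 1) (hsK : s ∣ Fintype.card K - 1)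
    (hψ : Function.Injective ψ) (g : ↥(chevF4.group K)) {e Y : H}
    (hg : ((g * ψ e * g⁻¹ : ↥(chevF4.group K)) : GL chevF4.Idx K) ∈ chevF4.diagonalSubgroup K)
    (he : orderOf e = s) {k : ℕ} (hY : Y * e * Y⁻¹ = e ^ k) {L : List ℕ}
    (hL : ∀ t t' : ↥(chevF4.group K),
      ((g * t * g⁻¹ : ↥(chevF4.group K)) : GL chevF4.Idx K) ∈ chevF4.diagonalSubgroup K →
      ((g * t' * g⁻¹ : ↥(chevF4.group K)) : GL chevF4.Idx K) ∈ chevF4.diagonalSubgroup K →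
      ψ Y * t * (ψ Y)⁻¹ = t' →
      ∀ c, torus chevF4 K c = ((g * t * g⁻¹ : ↥(chevF4.group K)) : GL chevF4.Idx K) →
        torus chevF4 K (act (wMat chevF4 L) c)
          = ((g * t' * g⁻¹ : ↥(chevF4.group K)) : GL chevF4.Idx K)) :
    ∃ v : Fin 4 → ZMod s, v ≠ 0 ∧
      (wMat chevF4 L).map (Int.castRingHom (ZMod s)) *ᵥ v = (k : ZMod s) • v := by
  refine exists_eigen (H37.Chev.dataF4 K) (cartanMat_F4.symm ▸ H37.kerCertF4) (d₀ := 1) (e₀ := 0)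
    (fun h => hs1 (Nat.dvd_one.1 h)) hsK g (t := ψ e) hg
    (by rw [orderOf_injective ψ hψ, he]) L (k := k) ?_
  intro c hc
  refine hL _ _ hg ?_ (by rw [← map_mul, ← map_inv, ← map_mul, hY, map_pow]) c hc
  rw [← conj_pow, SubmonoidClass.coe_pow]
  exact pow_mem hg k

variable {F : Type*} [Field F] [Fintype F]

/-- No section of `F₄(q)`, `11 ∤ q`, has an element of order 11 with automizer of order five. -/
theorem no_eleven_five (h11 : ¬ 11 ∣ Fintype.card F) {H₀ : Subgroup ↥(chevF4.group F)}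
    (π : ↥H₀ →* A) (hπ : Function.Surjective π) {x y : A} (hx : orderOf x = 11)
    (hxy : y * x * y⁻¹ = x ^ 3) : False := by
  have hp : Fact (Nat.Prime 11) := ⟨by norm_num⟩
  obtain ⟨K, _, _, φ, hφ, hK⟩ := exists_split (H37.Chev.dataF4 F).K [2, 6, 8, 12] rfl hord_F4
    (F := F) {11} (by simp [goodPrime_F4 hp.out (by norm_num) h11])
  obtain ⟨hsK, hv⟩ := hK 11 (Finset.mem_singleton_self _)
  set ψ : ↥H₀ →* ↥(chevF4.group K) := φ.comp H₀.subtype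
  have hψ : Function.Injective ψ := hφ.comp Subtype.val_injective
  obtain ⟨P, hP, ⟨z, hz, hzx⟩, hlift⟩ := sylow_lift π hx (hπ x)
  obtain ⟨γ, hγ⟩ := hπ y
  obtain ⟨i, Y, hY, hπY⟩ := hlift γ (by rw [hγ, hxy]; exact ⟨3, by simp⟩)
  obtain ⟨g, hg⟩ := exists_conj_image ψ hv hP
  have hYl : ∀ a ∈ P, Y ^ 1152 * a * (Y ^ 1152)⁻¹ = a := fun a ha =>
    centralizes_aux (s := 11) ψ hψ g hg hY ha
  have hk : π Y * x * (π Y)⁻¹ = x ^ 3 := by
    rw [hπY, hγ, show x ^ i * y * x * (x ^ i * y)⁻¹ = x ^ i * (y * x * y⁻¹) * (x ^ i)⁻¹ by group, hxy]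
    group
  obtain ⟨e, he, heo, hYe⟩ := eigen_elt π P hP (abelian_aux ψ hψ g hg) hY
    (by norm_num : ¬ 11 ∣ 1152) hYl hx hz hzx hk
  obtain ⟨L, hL, hact⟩ := exists_word (H37.Chev.dataF4 K) g (ψ Y)
  obtain ⟨v, hv0, hv⟩ := eigen_aux (s := 11) ψ (by norm_num) hsK hψ g (hg e he) heo hYe hact
  exact no_five (K := K) hL hv0 hv

/-- No section of `F₄(q)`, `5, 7 ∤ q`, has an element of order 35 sent to its 17th power. -/
theorem no_thirty_five (h5 : ¬ 5 ∣ Fintype.card F) (h7 : ¬ 7 ∣ Fintype.card F)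
    {H₀ : Subgroup ↥(chevF4.group F)} (π : ↥H₀ →* A) (hπ : Function.Surjective π) {x y : A}
    (hx : orderOf x = 35) (hxy : y * x * y⁻¹ = x ^ 17) : False := by
  have hp5 : Fact (Nat.Prime 5) := ⟨by norm_num⟩
  have hp7 : Fact (Nat.Prime 7) := ⟨by norm_num⟩
  obtain ⟨K, _, _, φ, hφ, hK⟩ := exists_split (H37.Chev.dataF4 F).K [2, 6, 8, 12] rfl hord_F4
    (F := F) {5, 7} (by
      simp only [Finset.mem_insert, Finset.mem_singleton, forall_eq_or_imp, forall_eq]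
      exact ⟨goodPrime_F4 hp5.out (by norm_num) h5, goodPrime_F4 hp7.out (by norm_num) h7⟩)
  obtain ⟨h5K, hv5⟩ := hK 5 (by simp)
  obtain ⟨h7K, hv7⟩ := hK 7 (by simp)
  set ψ : ↥H₀ →* ↥(chevF4.group K) := φ.comp H₀.subtype with hψdef
  have hψ : Function.Injective ψ := hφ.comp Subtype.val_injective
  set a := x ^ 21 with ha
  set b := x ^ 15 with hb
  have hao : orderOf a = 5 := by rw [ha, orderOf_pow' x (by norm_num), hx]; rfl
  have hbo : orderOf b = 7 := by rw [hb, orderOf_pow' x (by norm_num), hx]; rfl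
  have hya : y * a * y⁻¹ = a ^ 17 := by
    rw [ha, ← conj_pow, hxy, ← pow_mul, ← pow_mul, mul_comm]
  have hyb : y * b * y⁻¹ = b ^ 17 := by
    rw [hb, ← conj_pow, hxy, ← pow_mul, ← pow_mul, mul_comm]
  -- first prime
  obtain ⟨P, hP, ⟨z, hz, hzx⟩, hlift⟩ := sylow_lift π hao (hπ a)
  obtain ⟨γb, hγb⟩ := hπ b
  have hab : Commute a b := (Commute.refl x).pow_pow _ _
  obtain ⟨i, n₁, hn₁, hπn₁⟩ := hlift γb (by
    rw [hγb, show b * a * b⁻¹ = a by rw [← hab.eq, mul_inv_cancel_right]]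
    exact Subgroup.mem_zpowers a)
  set N₂ := Subgroup.normalizer (P : Set ↥H₀) with hN₂
  set π₂ : ↥N₂ →* A := π.comp N₂.subtype with hπ₂
  have hbr : b ∈ π₂.range := by
    refine ⟨⟨n₁, hn₁⟩ ^ 15, ?_⟩
    show π (n₁ ^ 15) = b
    have h1 : (a ^ i) ^ (15 : ℕ) = 1 := by
      rw [← zpow_natCast, ← _root_.zpow_mul, ← orderOf_dvd_iff_zpow_eq_one, hao]
      exact Dvd.dvd.mul_left (by norm_num) i
    rw [map_pow, hπn₁, hγb, (hab.zpow_left i).mul_pow, h1, one_mul, pow_eq_pow_mod _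
      (hbo ▸ pow_orderOf_eq_one b), show 15 % 7 = 1 from rfl, pow_one]
  obtain ⟨R₂, hR₂, ⟨z₂, hz₂, hzx₂⟩, hlift₂⟩ := sylow_lift π₂ hbo hbr
  obtain ⟨γ, hγ⟩ := hπ y
  obtain ⟨i₁, n, hn, hπn⟩ := hlift γ (by rw [hγ, hya]; exact ⟨17, by simp⟩)
  obtain ⟨i₂, Y₂, hY₂, hπY₂⟩ := hlift₂ ⟨n, hn⟩ (by
    show π n * b * (π n)⁻¹ ∈ _
    rw [hπn, hγ, show a ^ i₁ * y * b * (a ^ i₁ * y)⁻¹ = a ^ i₁ * (y * b * y⁻¹) * (a ^ i₁)⁻¹ by group,
      hyb, ((hab.zpow_left i₁).pow_right 17).eq, mul_inv_cancel_right]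
    exact ⟨17, by simp⟩)
  set R : Subgroup ↥H₀ := R₂.map N₂.subtype with hR
  set Y : ↥H₀ := (Y₂ : ↥H₀) with hYdef
  have hπY : π Y = b ^ i₂ * (a ^ i₁ * y) := by
    have h : π Y = b ^ i₂ * π n := hπY₂
    rw [h, hπn, hγ]
  have hYP : Y ∈ Subgroup.normalizer (P : Set ↥H₀) := Y₂.2
  have hYR : Y ∈ Subgroup.normalizer (R : Set ↥H₀) := by
    refine Subgroup.mem_normalizer_fintype ?_
    rintro _ ⟨w, hw, rfl⟩
    exact ⟨Y₂ * w * Y₂⁻¹, (Subgroup.mem_normalizer_iff.1 hY₂ w).1 hw, rfl⟩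
  obtain ⟨g₁, hg₁⟩ := exists_conj_image ψ hv5 hP
  have hcomm : ∀ u ∈ P, ∀ w ∈ R, w * u = u * w := by
    rintro u hu _ ⟨w, hw, rfl⟩
    obtain ⟨j, hj⟩ := hR₂ ⟨w, hw⟩
    have hj' : (w : ↥H₀) ^ 7 ^ j = 1 := congrArg (fun t : R₂ => ((t : ↥N₂) : ↥H₀)) hj
    have hcop : Nat.Coprime 1152 (orderOf (w : ↥H₀)) :=
      Nat.Coprime.coprime_dvd_right (orderOf_dvd_of_pow_eq_one hj')
        (Nat.Coprime.pow_right j (by norm_num))
    obtain ⟨m, hm⟩ := exists_pow_eq_self_of_coprime hcop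
    have h1 := centralizes_aux (s := 5) ψ hψ g₁ hg₁ (Y := (w : ↥H₀)) w.2 hu
    rw [mul_inv_eq_iff_eq_mul] at h1
    have h2 : Commute ((w : ↥H₀) ^ 1152) u := h1
    have h3 := h2.pow_left m
    rw [hm] at h3
    exact h3
  have hT : ∀ t ∈ (fun u => g₁ * ψ u * g₁⁻¹) '' (P : Set ↥H₀),
      (t : GL chevF4.Idx K) ∈ chevF4.diagonalSubgroup K := by
    rintro _ ⟨u, hu, rfl⟩; exact hg₁ u hu
  have hR' : IsPGroup 7 ((R.map ψ).map (MulAut.conj g₁).toMonoidHom) :=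
    (((hR₂.map _).map _).map _)
  obtain ⟨g₂, hfix, hg₂⟩ := exists_conj_diag (H37.Chev.dataF4 K) hv7 _ hT hR' (by
    rintro _ ⟨u, hu, rfl⟩ _ ⟨_, ⟨w, hw, rfl⟩, rfl⟩
    show g₁ * ψ w * g₁⁻¹ * (g₁ * ψ u * g₁⁻¹) = g₁ * ψ u * g₁⁻¹ * (g₁ * ψ w * g₁⁻¹)
    rw [show g₁ * ψ w * g₁⁻¹ * (g₁ * ψ u * g₁⁻¹) = g₁ * (ψ w * ψ u) * g₁⁻¹ by group,
      ← map_mul, hcomm u hu w hw, map_mul]
    group)
  set g := g₂ * g₁ with hgdef
  have hgP : ∀ u ∈ P, ((g * ψ u * g⁻¹ : ↥(chevF4.group K)) : GL chevF4.Idx K)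
      ∈ chevF4.diagonalSubgroup K := fun u hu => by
    rw [show g * ψ u * g⁻¹ = g₂ * (g₁ * ψ u * g₁⁻¹) * g₂⁻¹ by rw [hgdef]; group,
      hfix _ ⟨u, hu, rfl⟩]
    exact hg₁ u hu
  have hgR : ∀ w ∈ R, ((g * ψ w * g⁻¹ : ↥(chevF4.group K)) : GL chevF4.Idx K)
      ∈ chevF4.diagonalSubgroup K := fun w hw => by
    rw [show g * ψ w * g⁻¹ = g₂ * (g₁ * ψ w * g₁⁻¹) * g₂⁻¹ by rw [hgdef]; group]
    exact hg₂ _ ⟨_, ⟨w, hw, rfl⟩, rfl⟩
  have hka : π Y * a * (π Y)⁻¹ = a ^ 17 := by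
    rw [hπY, show b ^ i₂ * (a ^ i₁ * y) * a * (b ^ i₂ * (a ^ i₁ * y))⁻¹
      = b ^ i₂ * (a ^ i₁ * (y * a * y⁻¹) * (a ^ i₁)⁻¹) * (b ^ i₂)⁻¹ by group, hya,
      show a ^ i₁ * a ^ 17 * (a ^ i₁)⁻¹ = a ^ 17 by group,
      ((hab.symm.zpow_left i₂).pow_right 17).eq, mul_inv_cancel_right]
  have hkb : π Y * b * (π Y)⁻¹ = b ^ 17 := by
    rw [hπY, show b ^ i₂ * (a ^ i₁ * y) * b * (b ^ i₂ * (a ^ i₁ * y))⁻¹
      = b ^ i₂ * (a ^ i₁ * (y * b * y⁻¹) * (a ^ i₁)⁻¹) * (b ^ i₂)⁻¹ by group, hyb,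
      ((hab.zpow_left i₁).pow_right 17).eq, mul_inv_cancel_right]
    group
  obtain ⟨e₅, he₅, he₅o, hYe₅⟩ := eigen_elt π P hP (abelian_aux ψ hψ g hgP) hYP
    (by norm_num : ¬ 5 ∣ 1152) (fun u hu => centralizes_aux (s := 5) ψ hψ g hgP hYP hu)
    hao hz hzx hka
  obtain ⟨e₇, he₇, he₇o, hYe₇⟩ := eigen_elt π R (hR₂.map _) (abelian_aux ψ hψ g hgR) hYR
    (by norm_num : ¬ 7 ∣ 1152) (fun u hu => centralizes_aux (s := 7) ψ hψ g hgR hYR hu)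
    hbo (z := (z₂ : ↥H₀)) ⟨z₂, hz₂, rfl⟩ hzx₂ hkb
  obtain ⟨L, hL, hact⟩ := exists_word (H37.Chev.dataF4 K) g (ψ Y)
  obtain ⟨v, hv0, hv⟩ := eigen_aux (s := 5) ψ (by norm_num) h5K hψ g (hgP _ he₅) he₅o hYe₅ hact
  obtain ⟨w, hw0, hw⟩ := eigen_aux (s := 7) ψ (by norm_num) h7K hψ g (hgR _ he₇) he₇o hYe₇ hact
  exact no_four_six (K := K) hL hv0 hw0
    (by rw [hv]; congr 1) (by rw [hw]; congr 1)

end Cfsg.Agent.H77.Automizer
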