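import Mathlib

/-!
Lifting automizers of cyclic subgroups of prime order through a homomorphism.
-/
set_option autoImplicit false

namespace Cfsg.Agent.H77.Automizer

variable {H A : Type*} [Group H] [Finite H] [Group A]

/-- An `s`-subgroup of the preimage of `⟨x⟩` covering `x`, with the lifts of the elements
normalising `⟨x⟩` adjusted to normalise it. -/
theorem sylow_lift (π : H →* A) {s : ℕ} [hs : Fact s.Prime] {x : A} (hx : orderOf x = s)
    (hxr : x ∈ π.range) :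
    ∃ P : Subgroup H, IsPGroup s P ∧ (∃ z ∈ P, π z = x) ∧
      ∀ γ : H, π γ * x * (π γ)⁻¹ ∈ Subgroup.zpowers x →
        ∃ i : ℤ, ∃ n ∈ Subgroup.normalizer (P : Set H), π n = x ^ i * π γ := by
  set N : Subgroup H := (Subgroup.zpowers x).comap π with hN
  obtain ⟨S⟩ : Nonempty (Sylow s N) := inferInstance
  refine ⟨(S : Subgroup N).map N.subtype, S.isPGroup'.map _, ?_, ?_⟩
  · obtain ⟨z, hz⟩ := hxr
    have hzo : s ∣ orderOf z := hx ▸ hz ▸ orderOf_map_dvd π z
    obtain ⟨a, b, hb, hab⟩ : ∃ a b, ¬ s ∣ b ∧ orderOf z = s ^ a * b :=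
      Nat.exists_eq_pow_mul_and_not_dvd (orderOf_pos z).ne' s hs.out.ne_one
    -- the `s`-part of `z`
    set c := b * ((b : ZMod s)⁻¹).val with hc
    have hc1 : (c : ZMod s) = 1 := by
      rw [hc, Nat.cast_mul, ZMod.natCast_zmod_val,
        mul_inv_cancel₀ (fun h => hb ((ZMod.natCast_eq_zero_iff _ _).1 h))]
    have hπc : π (z ^ c) = x := by
      rw [map_pow, hz, ← pow_mod_orderOf, hx]
      have h1 := congrArg ZMod.val hc1
      rw [ZMod.val_natCast, ZMod.val_one] at h1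
      rw [h1, pow_one]
    have hzN : z ^ c ∈ N := by rw [hN, Subgroup.mem_comap, hπc]; exact Subgroup.mem_zpowers x
    have hord : (⟨z ^ c, hzN⟩ : N) ^ s ^ a = 1 := by
      refine Subtype.ext ?_
      show (z ^ c) ^ s ^ a = 1
      rw [← pow_mul, hc, show b * ((b : ZMod s)⁻¹).val * s ^ a = s ^ a * b * ((b : ZMod s)⁻¹).val
        by ring, pow_mul, ← hab, pow_orderOf_eq_one, one_pow]
    have hpg : IsPGroup s (Subgroup.zpowers (⟨z ^ c, hzN⟩ : N)) := by
      rintro ⟨w, hw⟩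
      obtain ⟨j, rfl⟩ := Subgroup.mem_zpowers_iff.1 hw
      refine ⟨a, Subtype.ext ?_⟩
      show ((⟨z ^ c, hzN⟩ : N) ^ j) ^ s ^ a = 1
      rw [← zpow_natCast, ← zpow_mul, mul_comm, zpow_mul, zpow_natCast, hord, one_zpow]
    obtain ⟨S', hS'⟩ := hpg.exists_le_sylow
    obtain ⟨m, hm⟩ := MulAction.exists_smul_eq N S S'
    have h1 : (⟨z ^ c, hzN⟩ : N) ∈ (S' : Subgroup N) := hS' (Subgroup.mem_zpowers _)
    rw [← hm] at h1
    obtain ⟨w, hw, he⟩ := h1
    refine ⟨(w : H), ⟨w, hw, rfl⟩, ?_⟩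
    have he' : (m : H) * (w : H) * (m : H)⁻¹ = z ^ c := congrArg Subtype.val he
    obtain ⟨i, hi⟩ := Subgroup.mem_zpowers_iff.1 (Subgroup.mem_comap.1 m.2 : π m ∈ Subgroup.zpowers x)
    obtain ⟨j, hj⟩ := Subgroup.mem_zpowers_iff.1 (Subgroup.mem_comap.1 w.2 : π w ∈ Subgroup.zpowers x)
    rw [← hπc, ← he', map_mul, map_mul, map_inv, ← hi, ← hj]
    group
  · intro γ hγ
    have hnorm : γ ∈ Subgroup.normalizer (N : Set H) := by
      haveI : Finite (N : Set H) := inferInstance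
      refine Subgroup.mem_normalizer_fintype ?_
      intro w hw
      obtain ⟨j, hj⟩ := Subgroup.mem_zpowers_iff.1 (Subgroup.mem_comap.1 hw)
      obtain ⟨i, hi⟩ := Subgroup.mem_zpowers_iff.1 hγ
      show π (γ * w * γ⁻¹) ∈ Subgroup.zpowers x
      rw [map_mul, map_mul, map_inv, ← hj, ← conj_zpow, ← hi, ← zpow_mul]
      exact Subgroup.zpow_mem_zpowers x _
    have hmem : ∀ w : H, w ∈ N ↔ γ * w * γ⁻¹ ∈ N := fun w => Subgroup.mem_normalizer_iff.1 hnorm w
    let α : MulAut N :=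
      { toFun := fun w => ⟨γ * w * γ⁻¹, (hmem w).1 w.2⟩
        invFun := fun w => ⟨γ⁻¹ * w * γ, (hmem _).2 (by
          rw [show γ * (γ⁻¹ * (w : H) * γ) * γ⁻¹ = w by group]; exact w.2)⟩
        left_inv := fun w => Subtype.ext (by group)
        right_inv := fun w => Subtype.ext (by group)
        map_mul' := fun u w => Subtype.ext (by simp only [Subgroup.coe_mul]; group) }
    obtain ⟨m, hm⟩ := MulAction.exists_smul_eq N (α • S) S
    have hmap : ∀ w ∈ (S : Subgroup N), m * α w * m⁻¹ ∈ (S : Subgroup N) := by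
      intro w hw
      have h1 : α w ∈ ((α • S : Sylow s N) : Subgroup N) := Subgroup.smul_mem_pointwise_smul w α _ hw
      have h2 : MulAut.conj m (α w) ∈ ((m • (α • S) : Sylow s N) : Subgroup N) :=
        Subgroup.smul_mem_pointwise_smul (α w) (MulAut.conj m) _ h1
      rw [hm] at h2
      exact h2
    obtain ⟨i, hi⟩ := Subgroup.mem_zpowers_iff.1 (Subgroup.mem_comap.1 m.2 : π m ∈ Subgroup.zpowers x)
    refine ⟨i, (m : H) * γ, ?_, by rw [map_mul, ← hi]⟩
    haveI : Finite (((S : Subgroup N).map N.subtype : Subgroup H) : Set H) := inferInstance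
    refine Subgroup.mem_normalizer_fintype ?_
    rintro _ ⟨w, hw, rfl⟩
    refine ⟨m * α w * m⁻¹, hmap w hw, ?_⟩
    show (m : H) * (γ * w * γ⁻¹) * (m : H)⁻¹ = (m : H) * γ * w * ((m : H) * γ)⁻¹
    group

/-- An element of order `s` that `Y` moves to its `k`-th power. -/
theorem eigen_elt (π : H →* A) {s : ℕ} [hs : Fact s.Prime] (P : Subgroup H) (hP : IsPGroup s P)
    (hab : ∀ a ∈ P, ∀ b ∈ P, a * b = b * a) {Y : H} (hY : Y ∈ Subgroup.normalizer (P : Set H))
    {l : ℕ} (hl : ¬ s ∣ l) (hYl : ∀ a ∈ P, Y ^ l * a * (Y ^ l)⁻¹ = a) {x : A} (hx : orderOf x = s)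
    {z : H} (hz : z ∈ P) (hzx : π z = x) {k : ℕ} (hk : π Y * x * (π Y)⁻¹ = x ^ k) :
    ∃ e ∈ P, orderOf e = s ∧ Y * e * Y⁻¹ = e ^ k := by
  letI : CommGroup P :=
    { (inferInstance : Group P) with mul_comm := fun a b => Subtype.ext (hab a a.2 b b.2) }
  let α : ℕ → (P →* P) := fun i =>
    { toFun := fun a => ⟨Y ^ i * a * (Y ^ i)⁻¹,
        (Subgroup.mem_normalizer_iff.1 (pow_mem hY i) _).1 a.2⟩
      map_one' := Subtype.ext (by simp)
      map_mul' := fun a b => Subtype.ext (by simp only [Subgroup.coe_mul]; group) }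
  set z' : P := ⟨z, hz⟩ with hz'
  obtain ⟨N, hN⟩ := hP z'
  obtain ⟨K, hK⟩ : ∃ K, K = k ^ s ^ N := ⟨_, rfl⟩
  have hπi : ∀ i, π (α i z' : H) = x ^ (k ^ i) := by
    intro i
    induction i with
    | zero => show π (Y ^ 0 * z * (Y ^ 0)⁻¹) = _; simp [hzx]
    | succ i ih =>
      show π (Y ^ (i + 1) * z * (Y ^ (i + 1))⁻¹) = _
      rw [show Y ^ (i + 1) * z * (Y ^ (i + 1))⁻¹ = Y * (Y ^ i * z * (Y ^ i)⁻¹) * Y⁻¹ by
        rw [pow_succ']; group, map_mul, map_mul, map_inv]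
      rw [show π (Y ^ i * z * (Y ^ i)⁻¹) = x ^ k ^ i from ih, ← conj_pow, hk, ← pow_mul, ← pow_succ']
  have hkl : (k : ZMod s) ^ l = 1 := by
    have h1 := hπi l
    rw [show (α l z' : H) = z from hYl z hz, hzx] at h1
    have h2 := pow_eq_pow_iff_modEq.1 ((pow_one x).trans h1)
    rw [hx, ← ZMod.natCast_eq_natCast_iff] at h2
    simpa using h2.symm
  have hKk : (K : ZMod s) = k := by
    rw [hK, Nat.cast_pow, ZMod.pow_card_pow]
  have hKl : (⟨z, hz⟩ : P) ^ K ^ l = ⟨z, hz⟩ := by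
    have h1 : ((s : ℤ)) ∣ (k : ℤ) ^ l - 1 := by
      rw [← ZMod.intCast_zmod_eq_zero_iff_dvd]
      push_cast
      rw [hkl, sub_self]
    have h2 := (pow_dvd_pow (s : ℤ) (Nat.le_succ N)).trans (dvd_sub_pow_of_dvd_sub h1 N)
    rw [one_pow, show ((k : ℤ) ^ l) ^ s ^ N = ((K ^ l : ℕ) : ℤ) by
      rw [hK]; push_cast; rw [← pow_mul, ← pow_mul, mul_comm]] at h2
    have h3 : K ^ l ≡ 1 [MOD s ^ N] := (Nat.modEq_iff_dvd.2 (by push_cast at h2 ⊢; exact h2)).symm
    have hd : orderOf z' ∣ s ^ N := orderOf_dvd_of_pow_eq_one hN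
    conv_rhs => rw [← pow_one (⟨z, hz⟩ : P)]
    exact pow_eq_pow_iff_modEq.2 (h3.of_dvd hd)
  set e₀ : P := ∏ i ∈ Finset.range l, α i z' ^ K ^ (l - 1 - i) with he₀
  have hl0 : 0 < l := Nat.pos_of_ne_zero fun h => hl (h ▸ dvd_zero s)
  have hα : α 1 e₀ = e₀ ^ K := by
    rw [he₀, map_prod, ← Finset.prod_pow]
    obtain ⟨l', rfl⟩ : ∃ l', l = l' + 1 := ⟨l - 1, by omega⟩
    have hstep : ∀ i, α 1 (α i z') = α (i + 1) z' := fun i => Subtype.ext (by
      show Y ^ 1 * (Y ^ i * z * (Y ^ i)⁻¹) * (Y ^ 1)⁻¹ = Y ^ (i + 1) * z * (Y ^ (i + 1))⁻¹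
      rw [pow_one, pow_succ']; group)
    have hlast : α (l' + 1) z' = z' := Subtype.ext (hYl z hz)
    rw [Finset.prod_range_succ, Finset.prod_range_succ' (fun i => (α i z' ^ K ^ (l' + 1 - 1 - i)) ^ K)]
    congr 1
    · refine Finset.prod_congr rfl fun i hi => ?_
      rw [Finset.mem_range] at hi
      rw [map_pow, hstep, ← pow_mul, ← pow_succ]
      congr 2
      omega
    · rw [map_pow, hstep, hlast, ← pow_mul, ← pow_succ,
        show l' + 1 - 1 - 0 + 1 = l' + 1 by omega, show l' + 1 - 1 - l' = 0 by omega, pow_zero,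
        pow_one]
      have : α 0 z' = z' := Subtype.ext (by show Y ^ 0 * z * (Y ^ 0)⁻¹ = z; simp)
      rw [this]
      exact hKl.symm
  have he1 : e₀ ≠ 1 := by
    intro h
    have h1 := congrArg (π.comp P.subtype) h
    rw [he₀, map_one] at h1
    have h2 : ∀ t : ℕ, (π.comp P.subtype) (∏ i ∈ Finset.range t, α i z' ^ K ^ (l - 1 - i))
        = x ^ (∑ i ∈ Finset.range t, k ^ i * K ^ (l - 1 - i)) := by
      intro t
      induction t with
      | zero => simp
      | succ t ih =>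
        rw [Finset.prod_range_succ, map_mul, ih, Finset.sum_range_succ, pow_add, map_pow,
          MonoidHom.comp_apply, Subgroup.coe_subtype, hπi, ← pow_mul]
    rw [h2] at h1
    have h3 := orderOf_dvd_of_pow_eq_one h1
    rw [hx, ← ZMod.natCast_eq_zero_iff] at h3
    push_cast at h3
    rw [hKk, Finset.sum_congr rfl (g := fun _ => (k : ZMod s) ^ (l - 1)) (fun i hi => by
      rw [Finset.mem_range] at hi
      rw [← pow_add]; congr 1; omega), Finset.sum_const, Finset.card_range, nsmul_eq_mul] at h3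
    rcases mul_eq_zero.1 h3 with h4 | h4
    · exact hl ((ZMod.natCast_eq_zero_iff _ _).1 h4)
    · have h5 := eq_zero_of_pow_eq_zero h4
      rw [h5, zero_pow hl0.ne'] at hkl
      exact zero_ne_one hkl
  obtain ⟨j, hj⟩ := hP e₀
  obtain ⟨i, -, hi⟩ := (Nat.dvd_prime_pow hs.out).1 (orderOf_dvd_of_pow_eq_one hj)
  have hi0 : i ≠ 0 := fun h => he1 (orderOf_eq_one_iff.1 (by rw [hi, h, pow_zero]))
  obtain ⟨i, rfl⟩ : ∃ i', i = i' + 1 := ⟨i - 1, by omega⟩
  set e := e₀ ^ s ^ i with he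
  have hord : orderOf e = s := by
    rw [he, orderOf_pow_of_dvd (pow_ne_zero _ hs.out.ne_zero) (by rw [hi]; exact pow_dvd_pow s (Nat.le_succ i)),
      hi, pow_succ', Nat.mul_div_cancel _ (pow_pos hs.out.pos _)]
  refine ⟨e, e.2, by rw [Subgroup.orderOf_coe, hord], ?_⟩
  have h1 : α 1 e = e ^ k := by
    rw [he, map_pow, hα, ← pow_mul, mul_comm, pow_mul, ← he]
    refine pow_eq_pow_iff_modEq.2 ?_
    rw [hord, ← ZMod.natCast_eq_natCast_iff]
    exact hKk
  have h2 := congrArg Subtype.val h1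
  change Y ^ 1 * (e : H) * (Y ^ 1)⁻¹ = _ at h2
  rw [pow_one] at h2
  exact h2

end Cfsg.Agent.H77.Automizer
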