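import Cfsg.Agent.H77.Automizer.Chev
import Cfsg.Agent.H77.Automizer.Lift

/-!
Two automizers that do not occur in the groups of type F4.
-/
set_option autoImplicit false

namespace Cfsg.Agent.H77.Automizer

open Cfsg.Lie Matrix Polynomial
open Cfsg.Agent.H37 (KerCert)
open Cfsg.Agent.Chevalley (torus cor Valid)
open Cfsg.Agent.H77.Homocyclic

/-- The coset representatives of the certificate. -/
def canonWords : List (List ℕ) :=
  (List.range 4).foldl (fun acc k =>
    acc.flatMap fun u => (H37.Weyl.lev H37.Weyl.certF4 k).words.map fun w => u ++ w) [[]]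

theorem canonWord_exists (g : CoxeterMatrix.F₄.Group) :
    ∃ u ∈ canonWords, H37.Weyl.wOf CoxeterMatrix.F₄ u = g := by
  have key : ∀ k ≤ 4, ∀ g ∈ H37.Weyl.K CoxeterMatrix.F₄ k,
      ∃ u ∈ ((List.range k).foldl (fun acc k =>
        acc.flatMap fun u => (H37.Weyl.lev H37.Weyl.certF4 k).words.map fun w => u ++ w) [[]]),
        H37.Weyl.wOf CoxeterMatrix.F₄ u = g := by
    intro k
    induction k with
    | zero =>
      intro _ g hg
      rw [H37.Weyl.K_zero, Subgroup.mem_bot] at hg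
      exact ⟨[], by simp, by rw [hg, H37.Weyl.wOf_nil]⟩
    | succ k ih =>
      intro hk g hg
      obtain ⟨a, ha, hmem⟩ := H37.Weyl.goodF4.coset_exists (by omega : k < 4) hg
      obtain ⟨u, hu, he⟩ := ih (by omega) _ hmem
      refine ⟨u ++ (H37.Weyl.lev H37.Weyl.certF4 k).word a, ?_, ?_⟩
      · rw [List.range_succ, List.foldl_append, List.foldl_cons, List.foldl_nil, List.mem_flatMap]
        refine ⟨u, hu, List.mem_map.2 ⟨_, ?_, rfl⟩⟩
        rw [H37.Weyl.Level.word_eq _ ha]
        exact List.getElem_mem ha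
      · rw [H37.Weyl.wOf_append, he, inv_mul_cancel_right]
  exact key 4 le_rfl g (by rw [H37.Weyl.K_top]; exact Subgroup.mem_top g)

theorem canonWords_valid : ∀ u ∈ canonWords, ∀ i ∈ u, i < 4 := by decide +kernel

/-- The image of a fundamental root under a word, as coroot coordinates. -/
def colF4 (u : List ℕ) (e j : ℕ) (i : ℕ) : ℤ :=
  cor chevF4 ((H37.Weyl.certF4.act u)^[e] (chevF4.simple j)) i

/-- Trace one implies that `X⁴ - X³ + 2X² - X + 1` does not kill the element. -/
def checkWord (u : List ℕ) : Bool :=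
  (((List.range 4).map fun j => colF4 u 1 j j).sum != 1) ||
    (List.range 4).any fun j => (List.range 4).any fun i =>
      colF4 u 4 j i - colF4 u 3 j i + 2 * colF4 u 2 j i - colF4 u 1 j i + colF4 u 0 j i != 0

theorem checkWord_all : canonWords.all checkWord = true := by decide +kernel

theorem wMat_cor {D : ChevalleyDatum} {K : Type*} [Field K] (Q : H37.Chev.Data D K) {L : List ℕ}
    (hL : Valid D L) (s : Fin D.nroots) :
    wMat D L *ᵥ (fun m : Fin D.rank => cor D s m)
      = fun m : Fin D.rank => cor D (Q.X.good.hom (H37.Weyl.wOf Q.X.M L) s).val m := by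
  induction L with
  | nil => simp [wMat, H37.Weyl.wOf_nil]
  | cons i L ih =>
    obtain ⟨hi, hL'⟩ := Chevalley.valid_cons.1 hL
    rw [wMat_cons hi, ← Matrix.mulVec_mulVec, ih hL', refl_cor Q.K hi (Fin.isLt _)]
    have hi' : i < Q.X.n := Q.rank_eq ▸ hi
    funext m
    congr 2
    rw [H37.Weyl.wOf_cons, map_mul, Equiv.Perm.mul_apply,
      show H37.Weyl.gen Q.X.M i = Q.X.M.simple ⟨i, hi'⟩ from dif_pos hi',
      Q.X.good.hom_simple_val, Q.K.w_reflect i hi _ (Fin.isLt _)]

theorem wMat_col {K : Type*} [Field K] {L : List ℕ} (hL : Valid chevF4 L) :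
    ∃ u ∈ canonWords, ∀ M : Matrix (Fin 4) (Fin 4) ℤ, M = wMat chevF4 L →
      ∀ (e : ℕ) (i j : Fin 4), (M ^ e) i j = colF4 u e j i := by
  obtain ⟨u, hu, he⟩ := canonWord_exists (H37.Weyl.wOf CoxeterMatrix.F₄ L)
  refine ⟨u, hu, fun M hM e i j => ?_⟩
  let Q := H37.Chev.dataF4 K
  have hiter : ∀ (e : ℕ) (s : Fin chevF4.nroots),
      wMat chevF4 L ^ e *ᵥ (fun m : Fin chevF4.rank => cor chevF4 s m)
        = fun m : Fin chevF4.rank => cor chevF4 ((H37.Weyl.certF4.act u)^[e] s.val) m := by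
    intro e
    induction e with
    | zero => intro s; simp
    | succ e ih =>
      intro s
      rw [pow_succ, ← Matrix.mulVec_mulVec, wMat_cor Q hL s, ih]
      funext m
      congr 1
      rw [Function.iterate_succ_apply]
      congr 1
      rw [show H37.Weyl.wOf Q.X.M L = H37.Weyl.wOf CoxeterMatrix.F₄ u from he.symm]
      exact H37.Weyl.goodF4.hom_wOf_val (canonWords_valid u hu) s
  have hj := (Q.K.simple_lt j j.isLt).1
  have hsimple : (fun m : Fin 4 => cor chevF4 (chevF4.simple j) m) = Pi.single j 1 := by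
    funext m
    refine (Q.K.cor_simple j j.isLt m m.isLt).trans ?_
    simp only [Pi.single_apply, Fin.ext_iff]
  have h1 : ((M ^ e) *ᵥ fun m : Fin 4 => cor chevF4 (chevF4.simple j) m) i =
      cor chevF4 ((H37.Weyl.certF4.act u)^[e] (chevF4.simple j)) i := by
    subst hM
    exact congrFun (hiter e ⟨chevF4.simple j, hj⟩) i
  rw [hsimple, Matrix.mulVec_single_one] at h1
  exact h1

theorem charpoly_root {D : ChevalleyDatum} {s : ℕ} [Fact s.Prime]
    {M : Matrix (Fin D.rank) (Fin D.rank) ℤ} {z : ZMod s} {v : Fin D.rank → ZMod s} (hv : v ≠ 0)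
    (h : M.map (Int.castRingHom (ZMod s)) *ᵥ v = z • v) :
    (M.charpoly.map (Int.castRingHom (ZMod s))).IsRoot z := by
  rw [IsRoot.def, ← Matrix.charpoly_map, Matrix.eval_charpoly]
  refine Matrix.exists_mulVec_eq_zero_iff.1 ⟨v, hv, ?_⟩
  rw [Matrix.sub_mulVec, h, sub_eq_zero]
  funext i
  simp [Matrix.scalar_apply, Matrix.mulVec_diagonal]

theorem cyclotomic_six_int : cyclotomic 6 ℤ = X ^ 2 - X + 1 := by
  have h := prod_cyclotomic_eq_X_pow_sub_one (by norm_num : 0 < 6) ℤ
  rw [show Nat.divisors 6 = {1, 2, 3, 6} by decide +kernel] at h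
  rw [Finset.prod_insert (by decide +kernel), Finset.prod_insert (by decide +kernel),
    Finset.prod_insert (by decide +kernel), Finset.prod_singleton, cyclotomic_one, cyclotomic_two,
    cyclotomic_three] at h
  have h2 : ((X : ℤ[X]) - 1) * (X + 1) * (X ^ 2 + X + 1) ≠ 0 := by
    intro h0
    have := congrArg (Polynomial.eval (2 : ℤ)) h0
    simp at this
  refine mul_left_cancel₀ h2 ?_
  linear_combination h

theorem isPrimitiveRoot_two : IsPrimitiveRoot (2 : ZMod 5) 4 :=
  IsPrimitiveRoot.iff_orderOf.2 (orderOf_eq_iff (by norm_num) |>.2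
    ⟨by decide, fun m hm hm0 => by interval_cases m <;> decide⟩)

theorem isPrimitiveRoot_three : IsPrimitiveRoot (3 : ZMod 7) 6 :=
  IsPrimitiveRoot.iff_orderOf.2 (orderOf_eq_iff (by norm_num) |>.2
    ⟨by decide, fun m hm hm0 => by interval_cases m <;> decide⟩)

/-- No element of the Weyl group of type F4 has eigenvalues `i` and a primitive sixth root of
unity. -/
theorem no_four_six {K : Type*} [Field K] {L : List ℕ} (hL : Valid chevF4 L) {v : Fin 4 → ZMod 5}
    {w : Fin 4 → ZMod 7} (hv : v ≠ 0) (hw : w ≠ 0)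
    (h5 : (wMat chevF4 L).map (Int.castRingHom (ZMod 5)) *ᵥ v = (2 : ZMod 5) • v)
    (h7 : (wMat chevF4 L).map (Int.castRingHom (ZMod 7)) *ᵥ w = (3 : ZMod 7) • w) : False := by
  have : Fact (Nat.Prime 5) := ⟨by norm_num⟩
  have : Fact (Nat.Prime 7) := ⟨by norm_num⟩
  set M : Matrix (Fin 4) (Fin 4) ℤ := wMat chevF4 L with hM
  have hpow : M ^ 1152 = 1 := by
    have := wMat_pow (H37.Chev.dataF4 K) hL
    rwa [show Nat.card (H37.Chev.dataF4 K).X.M.Group = 1152 from H37.Weyl.cardF4] at this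
  have hd4 : cyclotomic 4 ℤ ∣ M.charpoly :=
    cyclotomic_dvd (r := 5) (by norm_num : ¬ 5 ∣ 1152) (charpoly_dvd hpow) (by norm_num)
      (z := (2 : ZMod 5)) isPrimitiveRoot_two
      (charpoly_root (D := chevF4) hv h5)
  have hd6 : cyclotomic 6 ℤ ∣ M.charpoly :=
    cyclotomic_dvd (r := 7) (by norm_num : ¬ 7 ∣ 1152) (charpoly_dvd hpow) (by norm_num)
      (z := (3 : ZMod 7)) isPrimitiveRoot_three
      (charpoly_root (D := chevF4) hw h7)
  rw [cyclotomic_four_int] at hd4
  rw [cyclotomic_six_int] at hd6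
  obtain ⟨g, hg⟩ := hd4
  rw [hg] at hd6
  obtain ⟨g', hg'⟩ : (X ^ 2 - X + 1 : ℤ[X]) ∣ g := by
    have hp : Prime (X ^ 2 - X + 1 : ℤ[X]) := by
      rw [← cyclotomic_six_int]; exact (cyclotomic.irreducible (by norm_num)).prime
    refine (hp.dvd_or_dvd hd6).resolve_left ?_
    rintro ⟨a, ha⟩
    have h0 := congrArg (Polynomial.eval (1 : ℤ)) ha
    have h1 := congrArg (Polynomial.eval (-1 : ℤ)) ha
    simp at h0 h1
    omega
  have hchi : M.charpoly = X ^ 4 - X ^ 3 + 2 * X ^ 2 - X + 1 := by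
    have hP : (X ^ 4 - X ^ 3 + 2 * X ^ 2 - X + 1 : ℤ[X]).Monic := by monicity!
    have hdeg : (X ^ 4 - X ^ 3 + 2 * X ^ 2 - X + 1 : ℤ[X]).natDegree = 4 := by compute_degree!
    rw [hg', show (X ^ 2 + 1 : ℤ[X]) * ((X ^ 2 - X + 1) * g')
      = (X ^ 4 - X ^ 3 + 2 * X ^ 2 - X + 1) * g' by ring] at hg
    have hgm : g'.Monic := hP.of_mul_monic_left (hg ▸ M.charpoly_monic)
    have h1 := congrArg natDegree hg
    rw [Matrix.charpoly_natDegree_eq_dim, Fintype.card_fin, hP.natDegree_mul hgm, hdeg] at h1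
    rw [hg, hgm.natDegree_eq_zero.1 (by omega), mul_one]
  have htr : M.trace = 1 := by
    rw [Matrix.trace_eq_neg_charpoly_coeff, hchi]
    simp [Polynomial.coeff_X, Polynomial.coeff_one, Polynomial.coeff_X_pow, Fintype.card_fin]
  have hCH : ∀ i j : Fin 4, (M ^ 4) i j - (M ^ 3) i j + 2 * (M ^ 2) i j - (M ^ 1) i j
      + (M ^ 0) i j = 0 := by
    intro i j
    have h := Matrix.aeval_self_charpoly M
    rw [hchi] at h
    simp only [map_add, map_sub, map_mul, map_pow, aeval_X, map_one, map_ofNat] at h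
    have h' := congrFun (congrFun h i) j
    rw [pow_one, pow_zero]
    simpa [two_mul, Matrix.add_apply, Matrix.sub_apply] using h'
  obtain ⟨u, hu, hcol⟩ := wMat_col (K := K) hL
  have hcol := hcol M hM
  have hchk := List.all_eq_true.1 checkWord_all u hu
  simp only [checkWord, Bool.or_eq_true, List.any_eq_true, List.mem_range, bne_iff_ne, ne_eq,
    decide_eq_true_eq] at hchk
  rcases hchk with h | ⟨j, hj, i, hi, h⟩
  · refine h ?_
    rw [← htr, Matrix.trace]
    simp only [Matrix.diag_apply, Fin.sum_univ_four, List.range_succ, List.range_zero]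
    rw [← pow_one M]
    simp [hcol, add_assoc]
  · refine h ?_
    have := hCH ⟨i, hi⟩ ⟨j, hj⟩
    rw [hcol, hcol, hcol, hcol, hcol] at this
    exact this

theorem three_pow_ne_one (m : ℕ) (hm : m % 5 = 2) : (3 : ZMod 11) ^ m ≠ 1 := by
  rw [pow_eq_pow_mod m (show (3 : ZMod 11) ^ 5 = 1 by decide), hm]
  decide

/-- No element of the Weyl group of type F4 has a primitive fifth root of unity as an
eigenvalue. -/
theorem no_five {K : Type*} [Field K] {L : List ℕ} (hL : Valid chevF4 L) {v : Fin 4 → ZMod 11}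
    (hv : v ≠ 0) (h : (wMat chevF4 L).map (Int.castRingHom (ZMod 11)) *ᵥ v = (3 : ZMod 11) • v) :
    False := by
  have hp : Fact (Nat.Prime 11) := ⟨by norm_num⟩
  set M : Matrix (Fin 4) (Fin 4) ℤ := wMat chevF4 L
  have hpow : M ^ 1152 = 1 := by
    have := wMat_pow (H37.Chev.dataF4 K) hL
    rwa [show Nat.card (H37.Chev.dataF4 K).X.M.Group = 1152 from H37.Weyl.cardF4] at this
  set N := M.map (Int.castRingHom (ZMod 11)) with hN
  change N *ᵥ v = _ at h
  have hiter : ∀ m : ℕ, N ^ m *ᵥ v = (3 : ZMod 11) ^ m • v := by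
    intro m
    induction m with
    | zero => simp
    | succ m ih => rw [pow_succ, ← Matrix.mulVec_mulVec, h, Matrix.mulVec_smul, ih, smul_smul, pow_succ']
  obtain ⟨m, hm, hNm⟩ : ∃ m : ℕ, m % 5 = 2 ∧ N ^ m = 1 :=
    ⟨1152, by norm_num, by
      rw [hN, ← Matrix.map_pow, hpow, Matrix.map_one _ (map_zero _) (map_one _)]⟩
  have h1 := hiter m
  rw [hNm, Matrix.one_mulVec] at h1
  obtain ⟨i, hi⟩ := Function.ne_iff.1 hv
  have h2 := congrFun h1 i
  rw [Pi.smul_apply, smul_eq_mul] at h2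
  exact three_pow_ne_one m hm (mul_right_cancel₀ hi (by rw [one_mul]; exact h2.symm))

end Cfsg.Agent.H77.Automizer
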